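import Cfsg.Agent.H337.HT.Num
import Cfsg.Agent.H921.SporJ4
import Cfsg.Agent.H489.DegBase
import Cfsg.Agent.H384.AsOut
import Cfsg.Agent.Cit.TypeDet.Mathieu
import Cfsg.Agent.MTwelveType.SylowModel
import Cfsg.Agent.SporadicA.MathieuRecog
import Cfsg.Agent.SporadicB.J1.Main
import Cfsg.Agent.S0364
import Cfsg.Agent.S1619
import Cfsg.Agent.S1625
import Cfsg.Agent.S1703
import Cfsg.Agent.S2042
import Cfsg.Agent.S2060
import Cfsg.Agent.S2061
import Cfsg.Agent.S2062
import Cfsg.Agent.S2063
import Cfsg.Agent.S2064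
import Cfsg.Agent.S2065
import Cfsg.Agent.S2066
import Cfsg.Agent.S2067
import Cfsg.Agent.S2068

/-!
# S3540: the Mathieu and Janko groups in degree at least 13 (helper4)

`dead_spor₁` : `Dead n (Soc P)`.
-/

set_option autoImplicit false

universe u v

namespace Cfsg.Agent.H4.HT

open Cfsg Cfsg.Agent Cfsg.Agent.H915.LD Cfsg.Agent.H337.HT

theorem card_aut {T : Type u} [Group T] {X : Type v} [Group X] (e : T ≃* X) (hs : IsSimpleGroup T)
    (hn : ¬ IsMulCommutative T) {o k : ℕ} (ho : Nat.card T = o) (h0 : o ≠ 0) (hk : Nat.card (Cfsg.Out X) = k) :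
    Nat.card (MulAut T) = o * k := by
  have hT : Finite T := Nat.finite_of_card_ne_zero (by rw [ho]; exact h0)
  have hX : Finite X := Finite.of_equiv T e.toEquiv
  have hsX : IsSimpleGroup X := (MulEquiv.isSimpleGroup_congr e).1 hs
  have hc : Subgroup.center X = ⊥ := by
    rcases hsX.eq_bot_or_eq_top_of_normal (Subgroup.center X) inferInstance with h | h
    · exact h
    · exfalso
      apply hn
      refine ⟨⟨fun a b => ?_⟩⟩
      have h1 : e a ∈ Subgroup.center X := by rw [h]; trivial
      apply e.injective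
      rw [map_mul, map_mul]
      exact (Subgroup.mem_center_iff.mp h1 (e b)).symm
  rw [Nat.card_congr (MulAut.congr e).toEquiv, Cfsg.Agent.H384.TwoTrans.AS.card_mulAut hc, hk,
    ← Nat.card_congr e.toEquiv, ho, mul_comm]

section

variable {F : Type u} [Field F] {n : ℕ} {P : Subgroup (Matrix.GeneralLinearGroup (Fin n) F)}

theorem dead_m11 (hC : Core P) (hn : 13 ≤ n) (h : Spor.IsoM11 (Soc P)) : Dead n (Soc P) := by
  obtain ⟨e⟩ := h
  have ho := (Nat.card_congr e.toEquiv).trans Cit.TypeDet.card_M11'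
  exact sieve_dead 7 5 5 ho (card_aut e hC.simple hC.nonabelian ho (by norm_num) S2060.result) (by norm_num)
    (by norm_num) (by norm_num) (by decide +kernel) (by decide +kernel) hn

theorem dead_m12 (hC : Core P) (hn : 13 ≤ n) (h : Spor.IsoM12 (Soc P)) : Dead n (Soc P) := by
  obtain ⟨e⟩ := h
  have ho := (Nat.card_congr e.toEquiv).trans MTwelveType.SylowModel.card_M12
  exact sieve_dead 7 10 10 ho (card_aut e hC.simple hC.nonabelian ho (by norm_num) S2061.result) (by norm_num)
    (by norm_num) (by norm_num) (by decide +kernel) (by decide +kernel) hn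

theorem dead_m22 (hC : Core P) (hn : 13 ≤ n) (h : Spor.IsoM22 (Soc P)) : Dead n (Soc P) := by
  obtain ⟨e⟩ := h
  have ho := (Nat.card_congr e.toEquiv).trans SporadicA.MathieuRecog.card_M22
  exact sieve_dead 13 10 10 ho (card_aut e hC.simple hC.nonabelian ho (by norm_num) S2062.result) (by norm_num)
    (by norm_num) (by norm_num) (by decide +kernel) (by decide +kernel) hn

theorem dead_m23 (hC : Core P) (hn : 13 ≤ n) (h : Spor.IsoM23 (Soc P)) : Dead n (Soc P) := by
  obtain ⟨e⟩ := h
  have ho := (Nat.card_congr e.toEquiv).trans SporadicA.MathieuRecog.card_M23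
  exact sieve_dead 13 20 10 ho (card_aut e hC.simple hC.nonabelian ho (by norm_num) S2063.result) (by norm_num)
    (by norm_num) (by norm_num) (by decide +kernel) (by decide +kernel) hn

theorem dead_m24 (hC : Core P) (hn : 13 ≤ n) (h : Spor.IsoM24 (Soc P)) : Dead n (Soc P) := by
  obtain ⟨e⟩ := h
  have ho := (Nat.card_congr e.toEquiv).trans S0364.result
  exact sieve_dead 13 40 10 ho (card_aut e hC.simple hC.nonabelian ho (by norm_num) S2064.result) (by norm_num)
    (by norm_num) (by norm_num) (by decide +kernel) (by decide +kernel) hn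

theorem dead_j1 (hC : Core P) (hn : 13 ≤ n) (h : Spor.IsoJ1 (Soc P)) : Dead n (Soc P) := by
  obtain ⟨e⟩ := h
  have ho := (Nat.card_congr e.toEquiv).trans SporadicB.J1.Main.isJ1.2
  exact sieve_dead 13 10 10 ho (card_aut e hC.simple hC.nonabelian ho (by norm_num) S2065.result) (by norm_num)
    (by norm_num) (by norm_num) (by decide +kernel) (by decide +kernel) hn

theorem dead_j2 (hC : Core P) (hn : 13 ≤ n) (h : Spor.IsoJ2 (Soc P)) : Dead n (Soc P) := by
  obtain ⟨e⟩ := h
  have ho := (Nat.card_congr e.toEquiv).trans S1619.result.2.2.2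
  exact sieve_dead 11 10 10 ho (card_aut e hC.simple hC.nonabelian ho (by norm_num) S2066.result) (by norm_num)
    (by norm_num) (by norm_num) (by decide +kernel) (by decide +kernel) hn

theorem dead_j3 (hC : Core P) (hn : 13 ≤ n) (h : Spor.IsoJ3 (Soc P)) : Dead n (Soc P) := by
  obtain ⟨K, _, _, ω, hK, hω, ⟨e⟩⟩ := h
  have ho := (Nat.card_congr e.toEquiv).trans (S1625.result K hK ω hω).2.2.1
  exact sieve_dead 7 50 20 ho (card_aut e hC.simple hC.nonabelian ho (by norm_num) (S2067.result hK ω hω))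
    (by norm_num) (by norm_num) (by norm_num) (by decide +kernel) (by decide +kernel) hn

end

section

variable {F : Type u} [Field F] [Finite F] {n p : ℕ} [hp : Fact p.Prime] [CharP F p]
  {P : Subgroup (Matrix.GeneralLinearGroup (Fin n) F)}

theorem dead_j4 (hC : Core P) (hpd : ¬ p ∣ Nat.card (Soc P)) (h : Spor.IsoJ4 (Soc P)) : Dead n (Soc P) := by
  obtain ⟨e⟩ := h
  have ho := (Nat.card_congr e.toEquiv).trans S1703.result.2
  have hs : IsSimpleGroup Cfsg.Spor.J4 := (MulEquiv.isSimpleGroup_congr e).1 hC.simple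
  have h23 : p ≠ 23 := by
    rintro rfl
    apply hpd
    rw [ho]
    norm_num
  have hn : 15 ≤ n := by
    have h := H489.Deg.le_of_bd hC e S2042.result (r := 23) (by norm_num)
      ((H921.Spor.J4.J4_twentythree' hs).bd (F := F) (by norm_num) (H489.Deg.cast_ne (F := F) hp.out (by norm_num) h23))
    omega
  exact sieve_dead 13 1200 30 ho (card_aut e hC.simple hC.nonabelian ho (by norm_num) S2068.result) (by norm_num)
    (by norm_num) (by norm_num) (by decide +kernel) (by decide +kernel) hn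

/-- **B11: the Mathieu and Janko groups.** -/
theorem dead_spor₁ (hC : Core P) (hn : 13 ≤ n) (hpd : ¬ p ∣ Nat.card (Soc P))
    (h : Spor.IsoM11 (Soc P) ∨ Spor.IsoM12 (Soc P) ∨ Spor.IsoM22 (Soc P) ∨ Spor.IsoM23 (Soc P) ∨
      Spor.IsoM24 (Soc P) ∨ Spor.IsoJ1 (Soc P) ∨ Spor.IsoJ2 (Soc P) ∨ Spor.IsoJ3 (Soc P) ∨ Spor.IsoJ4 (Soc P)) :
    Dead n (Soc P) := by
  rcases h with h | h | h | h | h | h | h | h | h
  · exact dead_m11 hC hn h
  · exact dead_m12 hC hn h
  · exact dead_m22 hC hn h
  · exact dead_m23 hC hn h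
  · exact dead_m24 hC hn h
  · exact dead_j1 hC hn h
  · exact dead_j2 hC hn h
  · exact dead_j3 hC hn h
  · exact dead_j4 (p := p) hC hpd h

end

end Cfsg.Agent.H4.HT
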